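import Mathlib
import Groth.Agent.MorLib.Birat

/-!
# Purity for birational morphisms to locally factorial schemes
-/

set_option autoImplicit false
set_option linter.style.haveILetI false
set_option backward.isDefEq.respectTransparency false
set_option backward.isDefEq.respectTransparency.types false
universe u

open CategoryTheory CategoryTheory.Limits AlgebraicGeometry TopologicalSpace

namespace Groth.Agent.PurBir

/-- the local ring at a generization, through the local ring -/
theorem ringKrullDim_stalk_fromSpecStalk {X : Scheme.{u}} (x : X) (q : PrimeSpectrum (X.presheaf.stalk x)) :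
    ringKrullDim (X.presheaf.stalk (X.fromSpecStalk x q)) = q.asIdeal.height := by
  let g := X.fromSpecStalk x
  have hemb := g.isEmbedding
  let q' : ↥(Spec (X.presheaf.stalk x)) := q
  let f : Set.Ici q' → Set.Ici (g q') := fun a => ⟨g a.1, Scheme.le_iff_specializes.2
    ((Scheme.le_iff_specializes.1 a.2).map g.continuous)⟩
  let e : Set.Ici q' ≃o Set.Ici (g q') :=
    { Equiv.ofBijective f ⟨fun (a b : Set.Ici q') (h : f a = f b) =>
          Subtype.ext (hemb.injective (by have hv := congrArg Subtype.val h; exact hv)), fun b => by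
        have hb : b.1 ∈ Set.range g := by
          rw [Scheme.range_fromSpecStalk]
          have h1 : g q' ∈ Set.range g := ⟨q', rfl⟩
          rw [Scheme.range_fromSpecStalk] at h1
          exact (Scheme.le_iff_specializes.1 b.2).trans h1
        obtain ⟨a, ha⟩ := hb
        refine ⟨⟨a, Scheme.le_iff_specializes.2 (hemb.specializes_iff.1 ?_)⟩, Subtype.ext ha⟩
        rw [ha]; exact Scheme.le_iff_specializes.1 b.2⟩ with
      map_rel_iff' := by
        intro a b
        show g a.1 ≤ g b.1 ↔ a.1 ≤ b.1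
        rw [Scheme.le_iff_specializes, Scheme.le_iff_specializes, hemb.specializes_iff] }
  have h1 : Order.coheight (g q') = Order.coheight q' := by
    have := Order.krullDim_eq_of_orderIso e
    rw [← Order.coheight_eq_krullDim_Ici, ← Order.coheight_eq_krullDim_Ici] at this
    exact_mod_cast this.symm
  rw [ringKrullDim_stalk_eq_coheight, show X.fromSpecStalk x q = g q' from rfl, h1,
    ← ringKrullDim_stalk_eq_coheight]
  exact IsLocalization.AtPrime.ringKrullDim_eq_height q.asIdeal ((Spec.structureSheaf (X.presheaf.stalk x)).presheaf.stalk q)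

theorem eq_specializes {X : Scheme.{u}} (x : X) (q : PrimeSpectrum (X.presheaf.stalk x)) :
    X.fromSpecStalk x q ⤳ x := by
  have : X.fromSpecStalk x q ∈ Set.range (X.fromSpecStalk x) := ⟨q, rfl⟩
  rwa [Scheme.range_fromSpecStalk] at this

variable {X Y : Scheme.{u}}

theorem isIso_stalkMap_of_isOpenImmersion_restrict (g : X ⟶ Y) {W : X.Opens} [IsOpenImmersion (W.ι ≫ g)]
    {z : X} (hz : z ∈ W) : IsIso (g.stalkMap z) := by
  have h : IsIso ((W.ι ≫ g).stalkMap (⟨z, hz⟩ : W.toScheme)) := inferInstance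
  rw [Scheme.Hom.stalkMap_comp] at h
  exact @IsIso.of_isIso_comp_right _ _ _ _ _ _ _ inferInstance h

variable [IsIntegral X] [IsLocallyNoetherian X] [IsIntegral Y] [IsLocallyNoetherian Y] (g : X ⟶ Y)
  [LocallyOfFiniteType g]

theorem exists_isOpenImmersion_nhd {z : X} (h : IsIso (g.stalkMap z)) :
    ∃ W : X.Opens, z ∈ W ∧ IsOpenImmersion (W.ι ≫ g) := by
  obtain ⟨V₀, hV₀, hzV, -⟩ := exists_isAffineOpen_mem_and_subset (x := g z) (U := ⊤) trivial
  obtain ⟨U₀, hU₀, hzU, hUV⟩ := exists_isAffineOpen_mem_and_subset (x := z) (U := g ⁻¹ᵁ V₀) hzV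
  obtain ⟨U, V, hUV', hzU', -, -, hres⟩ :=
    Groth.Agent.MorLib.Birat.exists_isIso_resLE g h hV₀ hU₀ hUV hzU (Or.inl inferInstance)
  exact ⟨U, hzU', by rw [← Scheme.Hom.resLE_comp_ι g hUV']; infer_instance⟩

variable (hY : ∀ y : ↥Y, UniqueFactorizationMonoid (Y.presheaf.stalk y))
  (hV : ∃ (W : X.Opens), (W : Set ↥X).Nonempty ∧ IsOpenImmersion (W.ι ≫ g))

omit [IsLocallyNoetherian X] [IsLocallyNoetherian Y] [LocallyOfFiniteType g] in
include hV in
theorem generic_mem : g (genericPoint X) = genericPoint Y ∧ IsIso (g.stalkMap (genericPoint X)) ∧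
    ∃ W : X.Opens, genericPoint X ∈ W ∧ IsOpenImmersion (W.ι ≫ g) := by
  obtain ⟨W, hne, hW⟩ := hV
  haveI : Nonempty W := hne.to_subtype
  have hgen : genericPoint X ∈ W := ((genericPoint_spec X).mem_open_set_iff W.2).2 (by simpa using hne)
  refine ⟨?_, isIso_stalkMap_of_isOpenImmersion_restrict g hgen, W, hgen, hW⟩
  have h1 : W.ι (genericPoint W.toScheme) = genericPoint X := genericPoint_eq_of_isOpenImmersion W.ι
  have h2 : (W.ι ≫ g) (genericPoint W.toScheme) = genericPoint Y := genericPoint_eq_of_isOpenImmersion (W.ι ≫ g)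
  rw [← h2, ← h1]; rfl

include hY hV in
/-- the non-local-iso locus is pure of codimension one -/
theorem ringKrullDim_eq_one (ξ : ↥X) (hξ : ¬ ∃ W : X.Opens, ξ ∈ W ∧ IsOpenImmersion (W.ι ≫ g))
    (hmax : ∀ η : ↥X, (¬ ∃ W : X.Opens, η ∈ W ∧ IsOpenImmersion (W.ι ≫ g)) → η ⤳ ξ → η = ξ) :
    ringKrullDim (X.presheaf.stalk ξ) = 1 := by
  obtain ⟨hgen, hiso, Wg, hgW, hWg⟩ := generic_mem g hV
  let A := Y.presheaf.stalk (g ξ)
  let B := X.presheaf.stalk ξ
  let φ : A →+* B := (g.stalkMap ξ).hom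
  haveI : UniqueFactorizationMonoid A := hY _
  have hsp : genericPoint X ⤳ ξ := (genericPoint_spec X).specializes trivial
  let ρB : B →+* X.presheaf.stalk (genericPoint X) := (X.presheaf.stalkSpecializes hsp).hom
  let ρA : A →+* Y.presheaf.stalk (g (genericPoint X)) :=
    (Y.presheaf.stalkSpecializes (hsp.map g.continuous)).hom
  have hcomm : ∀ a, (g.stalkMap (genericPoint X)) (ρA a) = ρB (φ a) := fun a =>
    Scheme.Hom.stalkSpecializes_stalkMap_apply g (genericPoint X) ξ hsp a
  have hψ : Function.Bijective (g.stalkMap (genericPoint X)).hom :=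
    (ConcreteCategory.isIso_iff_bijective _).1 hiso
  have hBinj : Function.Injective ρB := IsFractionRing.injective B X.functionField
  have hAfrac : ∀ k, ∃ a b : A, b ≠ 0 ∧ ρA b * k = ρA a := by
    have key : ∀ (y : Y) (hy : y = genericPoint Y) (h : y ⤳ g ξ) (k : Y.presheaf.stalk y),
        ∃ a b : A, b ≠ 0 ∧ (Y.presheaf.stalkSpecializes h).hom b * k = (Y.presheaf.stalkSpecializes h).hom a := by
      rintro y rfl h k
      obtain ⟨⟨a, b⟩, hab⟩ := IsLocalization.surj (nonZeroDivisors A) (S := Y.functionField) k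
      exact ⟨a, b, nonZeroDivisors.ne_zero b.2, (mul_comm _ _).trans hab⟩
    exact key _ hgen _
  have hAinj : Function.Injective ρA := by
    have key : ∀ (y : Y) (hy : y = genericPoint Y) (h : y ⤳ g ξ),
        Function.Injective (Y.presheaf.stalkSpecializes h).hom := by
      rintro y rfl h
      exact IsFractionRing.injective A Y.functionField
    exact key _ hgen _
  have hφinj : Function.Injective φ := fun a b h => hAinj (hψ.1 (by
    show (g.stalkMap (genericPoint X)) (ρA a) = (g.stalkMap (genericPoint X)) (ρA b)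
    rw [hcomm, hcomm, h]))
  obtain ⟨b₀, hb₀⟩ : ∃ b₀ : B, b₀ ∉ Set.range φ := by
    by_contra hall
    push Not at hall
    exact hξ (exists_isOpenImmersion_nhd g ((ConcreteCategory.isIso_iff_bijective _).2 ⟨hφinj, hall⟩))
  obtain ⟨k, hk⟩ := hψ.2 (ρB b₀)
  obtain ⟨a, b, hb, hab⟩ := hAfrac k
  obtain ⟨a', b', c', hrel, hca, hcb⟩ := UniqueFactorizationMonoid.exists_reduced_factors' a b hb
  have hc : c' ≠ 0 := fun h => hb (by rw [← hcb, h, zero_mul])
  have hb' : b' ≠ 0 := fun h => hb (by rw [← hcb, h, mul_zero])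
  have hrelB : φ b' * b₀ = φ a' := by
    refine mul_left_cancel₀ (show φ c' ≠ 0 from fun h => hc (hφinj (h.trans (map_zero φ).symm))) (hBinj ?_)
    rw [← mul_assoc, ← map_mul, ← map_mul, hcb, hca, map_mul, ← hcomm, ← hcomm]
    show _ * ρB b₀ = _
    rw [← hk, ← map_mul, hab]
  have hnu : ¬ IsUnit (φ b') := fun h => by
    have hu : IsUnit b' := (isUnit_map_iff (g.stalkMap ξ).hom b').1 h
    refine hb₀ ⟨a' * (↑hu.unit⁻¹ : A), ?_⟩
    rw [map_mul, ← hrelB, mul_comm (φ b'), mul_assoc, ← map_mul, IsUnit.mul_val_inv, map_one, mul_one]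
  obtain ⟨P, hP, -⟩ := Ideal.exists_minimalPrimes_le
    (I := Ideal.span {φ b'}) (J := IsLocalRing.maximalIdeal B)
    ((Ideal.span_singleton_le_iff_mem _).2 hnu)
  haveI : P.IsPrime := hP.1.1
  have hP1 : P.height ≤ 1 := Ideal.height_le_one_of_isPrincipal_of_mem_minimalPrimes _ _ hP
  have hbP : φ b' ∈ P := hP.1.2 (Ideal.mem_span_singleton_self _)
  have haP : φ a' ∈ P := by rw [← hrelB]; exact P.mul_mem_right _ hbP
  let z := X.fromSpecStalk ξ ⟨P, inferInstance⟩
  have hzT : ¬ ∃ W : X.Opens, z ∈ W ∧ IsOpenImmersion (W.ι ≫ g) := by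
    rintro ⟨W, hzW, hW⟩
    haveI := isIso_stalkMap_of_isOpenImmersion_restrict g hzW
    let p : PrimeSpectrum A := ⟨P.comap φ, inferInstance⟩
    have hgz : g z = Y.fromSpecStalk (g ξ) p :=
      (congr($(Scheme.SpecMap_stalkMap_fromSpecStalk g (x := ξ)) (⟨P, inferInstance⟩ : PrimeSpectrum B))).symm
    have h1 : ringKrullDim (Y.presheaf.stalk (g z)) = ringKrullDim (X.presheaf.stalk z) :=
      ringKrullDim_eq_of_ringEquiv (asIso (g.stalkMap z)).commRingCatIsoToRingEquiv
    rw [hgz, ringKrullDim_stalk_fromSpecStalk, show z = X.fromSpecStalk ξ ⟨P, inferInstance⟩ from rfl,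
      ringKrullDim_stalk_fromSpecStalk] at h1
    have hp1 : p.asIdeal.height ≤ 1 := (show p.asIdeal.height = P.height from by exact_mod_cast h1).trans_le hP1
    have hpb : b' ∈ p.asIdeal := hbP
    have hpa : a' ∈ p.asIdeal := haP
    have hp0 : p.asIdeal ≠ ⊥ := fun h => hb' (Ideal.mem_bot.1 (h ▸ hpb))
    have hp : p.asIdeal.height = 1 := le_antisymm hp1 (by
      rw [Order.one_le_iff_ne_zero]
      intro h0
      rw [Ideal.height_eq_zero_iff, IsDomain.minimalPrimes_eq_singleton_bot] at h0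
      exact hp0 h0)
    obtain ⟨π, hπ⟩ := (UniqueFactorizationMonoid.isPrincipal_of_height_eq_one hp).principal
    rw [hπ, Ideal.submodule_span_eq, Ideal.mem_span_singleton] at hpb hpa
    exact p.2.ne_top (by rw [hπ, Ideal.submodule_span_eq, Ideal.span_singleton_eq_top]; exact hrel hpa hpb)
  have hz : z = ξ := hmax z hzT (eq_specializes ξ _)
  refine le_antisymm ?_ ?_
  · have := ringKrullDim_stalk_fromSpecStalk ξ ⟨P, inferInstance⟩
    change ringKrullDim (X.presheaf.stalk z) = _ at this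
    rw [hz] at this
    rw [this]
    exact_mod_cast hP1
  · rw [ringKrullDim_stalk_eq_coheight]
    have hne : ξ ≠ genericPoint X := fun h => hξ ⟨Wg, h ▸ hgW, hWg⟩
    have : ¬ IsMax ξ := fun hm => hne ((Scheme.le_iff_specializes.1 (hm (Scheme.le_iff_specializes.2 hsp))).antisymm hsp).eq
    exact_mod_cast Order.one_le_iff_ne_zero.2 fun h0 => this (Order.coheight_eq_zero.1 h0)

omit [IsIntegral X] [IsIntegral Y] [IsLocallyNoetherian Y] [LocallyOfFiniteType g] in
/-- a point outside the local-iso locus has a maximal generization there -/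
theorem exists_maximal {t : ↥X} (ht : ¬ ∃ W : X.Opens, t ∈ W ∧ IsOpenImmersion (W.ι ≫ g)) :
    ∃ ξ : ↥X, (¬ ∃ W : X.Opens, ξ ∈ W ∧ IsOpenImmersion (W.ι ≫ g)) ∧
      ∀ η : ↥X, (¬ ∃ W : X.Opens, η ∈ W ∧ IsOpenImmersion (W.ι ≫ g)) → η ⤳ ξ → η = ξ := by
  classical
  have hfin : ∀ x : ↥X, ∃ n : ℕ, ringKrullDim (X.presheaf.stalk x) = n := fun x => by
    obtain ⟨k, hk⟩ := WithBot.ne_bot_iff_exists.1 (ringKrullDim_ne_bot (R := X.presheaf.stalk x))
    have hlt := ringKrullDim_lt_top (R := X.presheaf.stalk x)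
    rw [← hk] at hlt
    obtain ⟨d, rfl⟩ := ENat.ne_top_iff_exists.1 (fun (h : k = ⊤) => hlt.ne (by rw [h]; rfl))
    exact ⟨d, hk.symm⟩
  let P : ℕ → Prop := fun n => ∃ η : ↥X, (¬ ∃ W : X.Opens, η ∈ W ∧ IsOpenImmersion (W.ι ≫ g)) ∧
    ringKrullDim (X.presheaf.stalk η) = n
  have hP : ∃ n, P n := ⟨_, t, ht, (hfin t).choose_spec⟩
  obtain ⟨ξ, hξ, hd⟩ := Nat.find_spec hP
  refine ⟨ξ, hξ, fun η hη hsp => by_contra fun hne => ?_⟩
  obtain ⟨m, hm⟩ := hfin η
  have hlt : Order.coheight η < Order.coheight ξ := by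
    refine Order.coheight_strictAnti ⟨Scheme.le_iff_specializes.2 hsp, fun h => hne ?_⟩ ?_
    · exact (hsp.antisymm (Scheme.le_iff_specializes.1 h)).eq
    · have h2 : ringKrullDim (X.presheaf.stalk η) = (m : ℕ) := hm
      rw [ringKrullDim_stalk_eq_coheight] at h2
      exact lt_of_eq_of_lt (show Order.coheight η = (m : ℕ∞) by exact_mod_cast h2) (ENat.natCast_lt_top _)
  have hmin : Nat.find hP ≤ m := Nat.find_min' hP ⟨η, hη, hm⟩
  have h2 : ringKrullDim (X.presheaf.stalk ξ) = (Nat.find hP : ℕ) := hd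
  rw [ringKrullDim_stalk_eq_coheight] at h2 hm
  have e1 : Order.coheight ξ = (Nat.find hP : ℕ∞) := by exact_mod_cast h2
  have e2 : Order.coheight η = (m : ℕ∞) := by exact_mod_cast hm
  rw [e1, e2, ENat.coe_lt_coe] at hlt
  exact hmin.not_gt hlt

end Groth.Agent.PurBir
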